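import Groth.Agent.S2116
import Mathlib.AlgebraicGeometry.Morphisms.Smooth
import Mathlib.RingTheory.Smooth.Locus

/-!
# Regular schemes of finite type over an algebraically closed field are smooth
-/

set_option autoImplicit false
set_option linter.style.haveILetI false

universe u

open CategoryTheory AlgebraicGeometry TopologicalSpace

namespace Groth.Agent.H28Bertini

theorem smooth_algebra_of_regular {k A : Type u} [Field k] [IsAlgClosed k] [CommRing A] [Algebra k A]
    [Algebra.FiniteType k A]
    (h : ∀ (m : Ideal A) [m.IsMaximal], IsRegularLocalRing (Localization.AtPrime m)) :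
    Algebra.Smooth k A := by
  haveI : Algebra.FinitePresentation k A := Algebra.FinitePresentation.of_finiteType.1 inferInstance
  refine ⟨(Algebra.smoothLocus_eq_univ_iff (R := k) (A := A)).1 (Set.eq_univ_of_forall fun q => ?_), inferInstance⟩
  obtain ⟨m, hm, hqm⟩ := Ideal.exists_le_maximal q.asIdeal q.isPrime.ne_top
  have hmem : (⟨m, hm.isPrime⟩ : PrimeSpectrum A) ∈ Algebra.smoothLocus k A := (S2116.result m).1 (h m)
  exact ((PrimeSpectrum.le_iff_specializes q ⟨m, hm.isPrime⟩).1 hqm).mem_open
    (Algebra.isOpen_smoothLocus) hmem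

theorem smooth_of_regular {k : Type u} [Field k] [IsAlgClosed k] {X : Scheme.{u}}
    (f : X ⟶ Spec (CommRingCat.of k)) [LocallyOfFiniteType f]
    (h : ∀ x : X, IsRegularLocalRing (X.presheaf.stalk x)) : Smooth f := by
  refine HasRingHomProperty.of_iSup_eq_top (P := @Smooth) (fun U : X.affineOpens => U)
    (iSup_affineOpens_eq_top X) fun U => ?_
  letI : Algebra k Γ(X, U.1) :=
    ((f.appLE ⊤ U.1 le_top).hom.comp (Scheme.ΓSpecIso (CommRingCat.of k)).inv.hom).toAlgebra
  haveI : Algebra.FiniteType k Γ(X, U.1) :=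
    RingHom.finiteType_algebraMap.1 (RingHom.finiteType_respectsIso.2 _
      (Scheme.ΓSpecIso (CommRingCat.of k)).symm.commRingCatIsoToRingEquiv
      (HasRingHomProperty.appLE @LocallyOfFiniteType _ inferInstance ⟨⊤, isAffineOpen_top _⟩ U le_top))
  haveI : Algebra.Smooth k Γ(X, U.1) := smooth_algebra_of_regular fun m _ => by
    let x := U.2.fromSpec ⟨m, ‹m.IsMaximal›.isPrime⟩
    have hx : x ∈ U.1 := by
      have h1 : x ∈ Set.range U.2.fromSpec := ⟨_, rfl⟩
      rw [U.2.range_fromSpec] at h1
      exact h1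
    letI : Algebra Γ(X, U.1) (X.presheaf.stalk x) := (X.presheaf.germ U.1 x hx).hom.toAlgebra
    haveI : IsLocalization.AtPrime (X.presheaf.stalk x) m := U.2.isLocalization_stalk' ⟨m, ‹m.IsMaximal›.isPrime⟩ hx
    haveI := h x
    exact IsRegularLocalRing.of_ringEquiv
      (IsLocalization.algEquiv m.primeCompl (X.presheaf.stalk x) (Localization.AtPrime m)).toRingEquiv
  have h1 : RingHom.Smooth (algebraMap k Γ(X, U.1)) := RingHom.smooth_algebraMap.2 inferInstance
  have h2 := RingHom.Smooth.respectsIso.2 _ (Scheme.ΓSpecIso (CommRingCat.of k)).commRingCatIsoToRingEquiv h1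
  show RingHom.Smooth (f.appLE ⊤ U.1 le_top).hom
  convert h2 using 1
  refine RingHom.ext fun a => ?_
  exact (congrArg (fun z => (f.appLE ⊤ U.1 le_top).hom z)
    (RingHom.congr_fun (congrArg CommRingCat.Hom.hom (Scheme.ΓSpecIso (CommRingCat.of k)).hom_inv_id) a)).symm

end Groth.Agent.H28Bertini
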