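import Groth.Agent.S4228

/-!
# A generic hyperplane section of a smooth affine domain is smooth
-/

set_option autoImplicit false

universe u

open CategoryTheory AlgebraicGeometry MvPolynomial

namespace Groth.Agent.H28Bertini

/-- A finitely generated nontrivial algebra over a field has natural-number dimension. -/
theorem exists_dim {k A : Type u} [Field k] [CommRing A] [Nontrivial A] [Algebra k A] {m : ℕ}
    (x : Fin m → A) (hx : Function.Surjective (aeval x : MvPolynomial (Fin m) k →ₐ[k] A)) :
    ∃ r : ℕ, ringKrullDim A = r := by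
  have h1 : ringKrullDim A ≤ (m : WithBot ℕ∞) := by
    refine (ringKrullDim_le_of_surjective (aeval x : MvPolynomial (Fin m) k →ₐ[k] A).toRingHom hx).trans ?_
    rw [MvPolynomial.ringKrullDim_of_isNoetherianRing]
    simp
  have h2 : (0 : WithBot ℕ∞) ≤ ringKrullDim A := ringKrullDim_nonneg_of_nontrivial
  generalize ringKrullDim A = d at h1 h2
  induction d with
  | bot => simp at h2
  | coe d =>
    induction d with
    | top => exact absurd (WithBot.coe_le_coe.1 h1) (by simp)
    | coe r => exact ⟨r, rfl⟩

/-- Generic linear combinations of a generating family containing `1` cut out smooth nonzero divisors. -/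
theorem exists_poly (k : Type u) [Field k] [Infinite k] (A : Type u) [CommRing A] [IsDomain A] [Algebra k A]
    [Algebra.Smooth k A] {n : ℕ} (x : Fin (n + 1) → A) (j : Fin (n + 1)) (hj : x j = 1)
    (hx : Function.Surjective (aeval x : MvPolynomial (Fin (n + 1)) k →ₐ[k] A)) :
    ∃ g : MvPolynomial (Fin (n + 1)) k, g ≠ 0 ∧ ∀ c : Fin (n + 1) → k, eval c g ≠ 0 →
      (∑ i, algebraMap k A (c i) * x i) ≠ 0 ∧
        Algebra.Smooth k (A ⧸ Ideal.span {∑ i, algebraMap k A (c i) * x i}) := by
  classical
  obtain ⟨r, hr⟩ := exists_dim x hx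
  have hdim : ∀ P ∈ minimalPrimes A, ringKrullDim (A ⧸ P) = r := fun P hP => by
    rw [IsDomain.minimalPrimes_eq_singleton_bot, Set.mem_singleton_iff] at hP
    subst hP
    rw [ringKrullDim_eq_of_ringEquiv (RingEquiv.quotientBot A), hr]
  obtain ⟨g, hg0, hg⟩ := S4228.result k (n + 1) r A x hx hdim
  obtain ⟨a, ha⟩ : ∃ a, eval a g ≠ 0 := by
    by_contra h
    push Not at h
    exact hg0 (MvPolynomial.funext fun a => by simpa using h a)
  -- substitute `a 0 := t` and `a i.succ := c i - δ i j t`
  let t := a 0
  let φ : Fin (n + 2) → MvPolynomial (Fin (n + 1)) k :=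
    Fin.cons (C t) fun i => X i - (if i = j then C t else 0)
  let ψ : (Fin (n + 1) → k) → (Fin (n + 2) → k) := fun c =>
    Fin.cons t fun i => c i - (if i = j then t else 0)
  have heval : ∀ c, eval c (bind₁ φ g) = eval (ψ c) g := fun c => by
    refine (eval₂Hom_bind₁ (RingHom.id k) c φ g).trans ?_
    refine congrArg (fun v => eval v g) (funext fun i => ?_)
    refine Fin.cases ?_ (fun i => ?_) i
    · simp [φ, ψ]
    · by_cases h : i = j <;> simp [φ, ψ, h]
  obtain ⟨l, hl⟩ := Module.Projective.exists_dual_ne_zero k (one_ne_zero : (1 : A) ≠ 0)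
  let g₂ : MvPolynomial (Fin (n + 1)) k := ∑ i, C (l (x i)) * X i
  have hg₂ : eval (Pi.single j 1) g₂ = l 1 := by
    simp [g₂, Pi.single_apply, hj]
  refine ⟨bind₁ φ g * g₂, mul_ne_zero (fun h => ha ?_) (fun h => hl ?_), fun c hc => ?_⟩
  · have h0 := heval (fun i => a i.succ + (if i = j then t else 0))
    rw [h, map_zero] at h0
    have hψ : ψ (fun i => a i.succ + (if i = j then t else 0)) = a := by
      refine funext fun i => ?_
      refine Fin.cases ?_ (fun i => ?_) i
      · simp [ψ, t]
      · simp [ψ]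
    rw [hψ] at h0
    exact h0.symm
  · rw [← hg₂, h, map_zero]
  rw [map_mul, mul_ne_zero_iff, heval] at hc
  refine ⟨fun h => hc.2 ?_, ?_⟩
  · have h' : l (∑ i, c i • x i) = 0 := by simp only [Algebra.smul_def, h, map_zero]
    rw [map_sum] at h'
    simp only [map_smul, smul_eq_mul] at h'
    simpa [g₂, mul_comm] using h'
  have hsum : algebraMap k A (ψ c 0) + ∑ i : Fin (n + 1), algebraMap k A (ψ c i.succ) * x i =
      ∑ i, algebraMap k A (c i) * x i := by
    simp only [ψ, Fin.cons_zero, Fin.cons_succ, map_sub, sub_mul, Finset.sum_sub_distrib]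
    rw [Finset.sum_eq_single j (f := fun i => algebraMap k A (if i = j then t else 0) * x i)
      (fun b _ hb => by simp [hb]) (fun h => absurd (Finset.mem_univ j) h)]
    simp [hj]
  have key := hg (ψ c) hc.1
  rw [hsum] at key
  set I := Ideal.span {∑ i, algebraMap k A (c i) * x i}
  haveI : Algebra.FinitePresentation k (A ⧸ I) := by
    haveI : IsNoetherianRing A := Algebra.FiniteType.isNoetherianRing k A
    exact Algebra.FinitePresentation.quotient (IsNoetherian.noetherian I)
  refine ⟨(Algebra.smoothLocus_eq_univ_iff (R := k) (A := A ⧸ I)).1 (Set.eq_univ_of_forall fun q => ?_), inferInstance⟩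
  obtain ⟨f, hf, hsm⟩ := key q.asIdeal q.isPrime ⟨1, fun h1 => q.isPrime.ne_top ((Ideal.eq_top_iff_one _).2 (by
      simpa using h1)), by
    rw [HasRingHomProperty.Spec_iff (P := @Smooth)]
    exact RingHom.smooth_algebraMap.2 (Algebra.basicOpen_subset_smoothLocus_iff_smooth.1
      (by rw [Algebra.smoothLocus_eq_univ]; exact Set.subset_univ _))⟩
  have hsm' : Smooth (Spec.map (CommRingCat.ofHom (algebraMap k (Localization.Away f)))) :=
    SmoothOfRelativeDimension.smooth (r - 1) _
  rw [HasRingHomProperty.Spec_iff (P := @Smooth)] at hsm'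
  exact Algebra.basicOpen_subset_smoothLocus_iff_smooth.2 (RingHom.smooth_algebraMap.1 hsm') hf

end Groth.Agent.H28Bertini
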