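import Groth.Agent.H28Bertini.Core
import Groth.Agent.H11Proj.SeparatesPoints
import Groth.Agent.H22Alg.HyperplanePn
import Groth.Agent.H29Blow.Basic
import Groth.Agent.LeadPic.PnRel

/-!
# Bertini: generic hyperplane sections of smooth integral projective schemes are smooth
-/

set_option autoImplicit false
set_option linter.style.haveILetI false
set_option backward.isDefEq.respectTransparency.types false

noncomputable section

universe u

open CategoryTheory CategoryTheory.Limits AlgebraicGeometry Opposite TopologicalSpace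
open Groth.Agent.H11Tilde Groth.Agent.H11Proj
open CohB1 (polyGrading ProjSpace)

namespace Groth.Agent.H28Bertini

variable {k : Type u} [Field k] {n : ℕ}

/-- A surjection whose kernel is `(h)` transports smoothness. -/
theorem smooth_comp_of_ker {A B : Type u} [CommRing A] [CommRing B] [Algebra k A] (φ : A →+* B)
    (hφ : Function.Surjective φ) (h : A) (hker : RingHom.ker φ = Ideal.span {h})
    [Algebra.Smooth k (A ⧸ Ideal.span {h})] : RingHom.Smooth (φ.comp (algebraMap k A)) := by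
  let e : (A ⧸ Ideal.span {h}) ≃+* B :=
    (Ideal.quotEquivOfEq hker.symm).trans (RingHom.quotientKerEquivOfSurjective hφ)
  have h1 : RingHom.Smooth (algebraMap k (A ⧸ Ideal.span {h})) := RingHom.smooth_algebraMap.2 inferInstance
  have h2 := RingHom.Smooth.respectsIso.1 (algebraMap k (A ⧸ Ideal.span {h})) e h1
  have h3 : φ.comp (algebraMap k A) = e.toRingHom.comp (algebraMap k (A ⧸ Ideal.span {h})) := by
    ext a; rfl
  exact h3 ▸ h2

/-- The global section `Σ c_t T_t` of `O(1)`. -/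
def formSec (c : Fin (n + 1) → k) : Γ(Twist.twistProjSpace n k 1, (⊤ : (ProjSpace n k).Opens)) :=
  ∑ t, (show Γ(ProjSpace n k, ⊤) from ProjUP.toGlobal (CohB1.ProjSpace.toSpec n k) (c t)) •
    (show Γ(Twist.twistProjSpace n k 1, (⊤ : (ProjSpace n k).Opens)) from ProjUP.coord n k t)

/-- The section `Σ c_t T_t` of `O(1)` as a morphism. -/
def formHom (c : Fin (n + 1) → k) :
    Coh.structureModule (ProjSpace n k) ⟶ Twist.twistProjSpace n k 1 :=
  homOfGlobal (Twist.twistProjSpace n k 1) (formSec c)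

/-- The generator of `O(1)` on a chart. -/
def chartGen (i : Fin (n + 1)) : Γ(Twist.twistProjSpace n k 1, SepPts.U (k := k) i) :=
  (Twist.twistProjSpace n k 1).presheaf.map (homOfLE (le_top : SepPts.U (k := k) i ≤ ⊤)).op
    (ProjUP.coord n k i)

theorem bijective_smul_chartGen (i : Fin (n + 1)) (y : ProjSpace n k) (hy : y ∈ SepPts.U (k := k) i) :
    Function.Bijective fun r : (ProjSpace n k).presheaf.stalk y =>
      r • (Twist.twistProjSpace n k 1).presheaf.germ _ y hy (chartGen i) :=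
  isGen_globalSec (polyGrading n k) (ProjSpace.X_mem n k i) y hy

theorem sGerm_formHom (c : Fin (n + 1) → k) (i : Fin (n + 1)) (y : ProjSpace n k)
    (hy : y ∈ SepPts.U (k := k) i) :
    H28Mero.sGerm (Twist.twistProjSpace n k 1) (formHom c) y =
      (ProjSpace n k).presheaf.germ _ y hy (SepPts.lin i c) •
        (Twist.twistProjSpace n k 1).presheaf.germ _ y hy (chartGen i) := by
  let L := Twist.twistProjSpace n k 1
  have h0 : H28Mero.sGerm L (formHom c) y = L.presheaf.germ ⊤ y trivial (formSec c) :=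
    congrArg (L.presheaf.germ ⊤ y trivial) (H11Ample.val_homOfGlobal (formSec c))
  rw [h0, formSec, map_sum, SepPts.lin, map_sum, Finset.sum_smul]
  refine Finset.sum_congr rfl fun t _ => ?_
  rw [map_mul, mul_smul]
  refine (H06Mod.germ_smul L ⊤ trivial _ _).trans (congrArg₂ (· • ·) ?_ ?_)
  · exact (TopCat.Presheaf.germ_res_apply _ _ _ hy _).symm
  · have h := congrArg (L.presheaf.germ _ y hy)
      (globalSec_eq_ratio_smul (polyGrading n k) (ProjSpace.X_mem n k i) (ProjSpace.X_mem n k t))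
    refine (TopCat.Presheaf.germ_res_apply L.presheaf _ _ hy _).symm.trans (h.trans ?_)
    exact H06Mod.germ_smul L _ hy _ _

theorem formHom_ne_zero (c : Fin (n + 1) → k) (i : Fin (n + 1)) (hc : SepPts.lin i c ≠ 0) :
    formHom c ≠ 0 := by
  intro h
  refine hc (TopCat.Presheaf.section_ext (ProjSpace n k).sheaf _ _ _ fun y hy => ?_)
  have h1 := sGerm_formHom c i y hy
  have h2 : H28Mero.sGerm (Twist.twistProjSpace n k 1) (formHom c) y = 0 := by
    rw [h]
    exact map_zero _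
  rw [h2] at h1
  refine (bijective_smul_chartGen i y hy).1 ?_
  refine h1.symm.trans (Eq.symm ?_)
  show ((ProjSpace n k).presheaf.germ (SepPts.U i) y hy 0 : (ProjSpace n k).presheaf.stalk y) •
    (Twist.twistProjSpace n k 1).presheaf.germ (SepPts.U i) y hy (chartGen i) = 0
  rw [map_zero, zero_smul]

theorem zeroScheme_formHom_ideal (c : Fin (n + 1) → k) (hc : formHom c ≠ 0) (i : Fin (n + 1)) :
    (PicF2.zeroScheme (Twist.twistProjSpace n k 1) (formHom c)).ideal
        ⟨SepPts.U (k := k) i, SepPts.isAffineOpen_U i⟩ = Ideal.span {SepPts.lin i c} := by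
  haveI : IsIntegral (ProjSpace n k) := LeadPic.PnRel.isIntegral_projSpace (n := n) k
  have hL := H22Alg.RegSheaf.isInvertible_twistProjSpace n k 1
  refine (H28Mero.zeroScheme_ideal _ _ hL (H28Mero.isRegularSection_of_ne_zero _ _ hL hc) _).trans
    (H28Mero.germIdeal_eq_span (SepPts.isAffineOpen_U i) _ fun y hy => ?_)
  exact H28Mero.zeroGerm_eq_span _ _ (bijective_smul_chartGen i y hy) (sGerm_formHom c i y hy)

variable {X : Scheme.{u}} (ι : X ⟶ ProjSpace n k)

/-- The trace of the linear form on a chart of `X`. -/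
abbrev linX (i : Fin (n + 1)) (c : Fin (n + 1) → k) : Γ(X, ι ⁻¹ᵁ SepPts.U i) :=
  ι.app (SepPts.U i) (SepPts.lin i c)

/-- The scalars on a chart of `X`. -/
abbrev κX (i : Fin (n + 1)) : k →+* Γ(X, ι ⁻¹ᵁ SepPts.U i) :=
  (ι.app (SepPts.U i)).hom.comp (SepPts.κ i)

theorem κX_eq (i : Fin (n + 1)) :
    κX ι i = ((ι ≫ CohB1.ProjSpace.toSpec n k).appLE ⊤ (ι ⁻¹ᵁ SepPts.U i) le_top).hom.comp
      (Scheme.ΓSpecIso (CommRingCat.of k)).inv.hom := by
  have h : (CohB1.ProjSpace.toSpec n k).appTop ≫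
      (ProjSpace n k).presheaf.map (homOfLE (le_top : SepPts.U (k := k) i ≤ ⊤)).op ≫ ι.app (SepPts.U i) =
      (ι ≫ CohB1.ProjSpace.toSpec n k).appLE ⊤ (ι ⁻¹ᵁ SepPts.U i) le_top := by
    rw [Scheme.Hom.naturality, ← Category.assoc]
    rfl
  rw [← h]
  rfl

variable [IsClosedImmersion ι]

theorem isAffineOpen_preimage_U (i : Fin (n + 1)) : IsAffineOpen (ι ⁻¹ᵁ SepPts.U (k := k) i) :=
  (SepPts.isAffineOpen_U i).preimage ι

/-- Bertini on one chart. -/
theorem exists_poly_chart [Infinite k] [IsIntegral X] [Smooth (ι ≫ CohB1.ProjSpace.toSpec n k)]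
    (i : Fin (n + 1)) :
    ∃ g : MvPolynomial (Fin (n + 1)) k, g ≠ 0 ∧ ∀ c, MvPolynomial.eval c g ≠ 0 →
      ((ι ⁻¹ᵁ SepPts.U (k := k) i : X.Opens) : Set X).Nonempty →
        linX ι i c ≠ 0 ∧
          ∀ {B : Type u} [CommRing B] (φ : Γ(X, ι ⁻¹ᵁ SepPts.U i) →+* B), Function.Surjective φ →
            RingHom.ker φ = Ideal.span {linX ι i c} → RingHom.Smooth (φ.comp (κX ι i)) := by
  classical
  by_cases hne : ((ι ⁻¹ᵁ SepPts.U (k := k) i : X.Opens) : Set X).Nonempty
  swap
  · exact ⟨1, one_ne_zero, fun c _ h => absurd h hne⟩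
  haveI : Nonempty (ι ⁻¹ᵁ SepPts.U (k := k) i : X.Opens) := hne.to_subtype
  letI : Algebra k Γ(X, ι ⁻¹ᵁ SepPts.U i) := (κX ι i).toAlgebra
  haveI : Algebra.Smooth k Γ(X, ι ⁻¹ᵁ SepPts.U i) := by
    refine RingHom.smooth_algebraMap.1 ?_
    rw [RingHom.algebraMap_toAlgebra, κX_eq]
    exact RingHom.Smooth.respectsIso.2 _ (Scheme.ΓSpecIso (CommRingCat.of k)).symm.commRingCatIsoToRingEquiv
      (HasRingHomProperty.appLE @Smooth _ inferInstance ⟨⊤, isAffineOpen_top _⟩
        ⟨_, isAffineOpen_preimage_U ι i⟩ le_top)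
  let x : Fin (n + 1) → Γ(X, ι ⁻¹ᵁ SepPts.U i) := fun t => ι.app (SepPts.U i) (SepPts.t i t)
  have hx : Function.Surjective
      (MvPolynomial.aeval x : MvPolynomial (Fin (n + 1)) k →ₐ[k] Γ(X, ι ⁻¹ᵁ SepPts.U i)) := by
    intro a
    obtain ⟨b, rfl⟩ := ι.app_surjective _ (SepPts.isAffineOpen_U i) a
    obtain ⟨p, rfl⟩ := SepPts.γ_surjective i b
    refine ⟨MvPolynomial.rename Subtype.val p, ?_⟩
    have h : (MvPolynomial.aeval x : MvPolynomial (Fin (n + 1)) k →ₐ[k] Γ(X, ι ⁻¹ᵁ SepPts.U i)).toRingHom.comp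
        (MvPolynomial.rename (Subtype.val : {j : Fin (n + 1) // j ≠ i} → Fin (n + 1))).toRingHom =
          (ι.app (SepPts.U i)).hom.comp (SepPts.γ i) := by
      refine MvPolynomial.ringHom_ext (fun a => ?_) (fun t => ?_)
      · have := congrArg (fun f : k →+* _ => (ι.app (SepPts.U i)).hom (f a)) (SepPts.κ_eq (k := k) i)
        simpa [RingHom.algebraMap_toAlgebra] using this
      · simp [x, SepPts.γ_X]
    exact RingHom.congr_fun h p
  obtain ⟨g, hg0, hg⟩ := exists_poly k Γ(X, ι ⁻¹ᵁ SepPts.U i) x i (by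
    simp only [x, SepPts.t_self, map_one]) hx
  refine ⟨g, hg0, fun c hc _ => ?_⟩
  have hsum : (∑ t, algebraMap k Γ(X, ι ⁻¹ᵁ SepPts.U i) (c t) * x t) = linX ι i c := by
    simp [linX, SepPts.lin, x, RingHom.algebraMap_toAlgebra]
  have := hg c hc
  rw [hsum] at this
  refine ⟨this.1, fun φ hφ hker => ?_⟩
  haveI := this.2
  exact smooth_comp_of_ker φ hφ _ hker

/-- Bertini: for a generic linear form the hyperplane section is a smooth proper closed subscheme, nonzero
on every chart. -/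
theorem exists_poly_proj [Infinite k] [IsIntegral X] [Smooth (ι ≫ CohB1.ProjSpace.toSpec n k)] :
    ∃ g : MvPolynomial (Fin (n + 1)) k, g ≠ 0 ∧ ∀ c, MvPolynomial.eval c g ≠ 0 →
      (∀ i : Fin (n + 1), ((ι ⁻¹ᵁ SepPts.U (k := k) i : X.Opens) : Set X).Nonempty → linX ι i c ≠ 0) ∧
      (∀ i : Fin (n + 1), ((PicF2.zeroScheme (Twist.twistProjSpace n k 1) (formHom c)).comap ι).ideal
          ⟨_, isAffineOpen_preimage_U ι i⟩ = Ideal.span {linX ι i c}) ∧
      Smooth (((PicF2.zeroScheme (Twist.twistProjSpace n k 1) (formHom c)).comap ι).subschemeι ≫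
        ι ≫ CohB1.ProjSpace.toSpec n k) := by
  choose g hg0 hg using fun i => exists_poly_chart ι i
  refine ⟨∏ i, g i, Finset.prod_ne_zero_iff.2 fun i _ => hg0 i, fun c hc => ?_⟩
  rw [map_prod, Finset.prod_ne_zero_iff] at hc
  have hc' := fun i => hg i c (hc i (Finset.mem_univ i))
  obtain ⟨i₀, hi₀⟩ : ∃ i, (ι (genericPoint X)) ∈ SepPts.U (k := k) i := SepPts.exists_chart _
  have hform : formHom c ≠ 0 := formHom_ne_zero c i₀ fun h =>
    (hc' i₀ ⟨genericPoint X, hi₀⟩).1 (by simp [linX, h])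
  let I := (PicF2.zeroScheme (Twist.twistProjSpace n k 1) (formHom c)).comap ι
  have hI : ∀ i, I.ideal ⟨_, isAffineOpen_preimage_U ι i⟩ = Ideal.span {linX ι i c} := fun i => by
    rw [H29Blow.ideal_comap _ ι ⟨_, SepPts.isAffineOpen_U i⟩ ⟨_, isAffineOpen_preimage_U ι i⟩ le_rfl,
      zeroScheme_formHom_ideal c hform i, Ideal.map_span, Set.image_singleton]
    exact congrArg (fun z => Ideal.span {z}) (congrArg (fun f => f (SepPts.lin i c)) ι.app_eq_appLE.symm)
  refine ⟨fun i hne => (hc' i hne).1, hI, ?_⟩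
  let f := I.subschemeι ≫ ι ≫ CohB1.ProjSpace.toSpec n k
  refine HasRingHomProperty.of_iSup_eq_top (P := @Smooth)
    (fun i : {i : Fin (n + 1) // ((ι ⁻¹ᵁ SepPts.U (k := k) i : X.Opens) : Set X).Nonempty} =>
      (⟨_, (isAffineOpen_preimage_U ι i.1).preimage I.subschemeι⟩ : I.subscheme.affineOpens))
    ?_ fun ⟨i, hW⟩ => ?_
  · refine eq_top_iff.2 fun y _ => ?_
    obtain ⟨i, hi⟩ := SepPts.exists_chart (ι (I.subschemeι y))
    exact Opens.mem_iSup.2 ⟨⟨i, I.subschemeι y, hi⟩, hi⟩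
  let W : X.affineOpens := ⟨ι ⁻¹ᵁ SepPts.U i, isAffineOpen_preimage_U ι i⟩
  have happ : f.appLE ⊤ (I.subschemeι ⁻¹ᵁ W.1) le_top =
      (ι ≫ CohB1.ProjSpace.toSpec n k).appLE ⊤ W.1 le_top ≫ I.subschemeι.app W.1 := by
    rw [Scheme.Hom.app_eq_appLE, Scheme.Hom.appLE_comp_appLE]
  show RingHom.Smooth (f.appLE ⊤ (I.subschemeι ⁻¹ᵁ W.1) le_top).hom
  rw [happ]
  have key := (hc' i hW).2 (I.subschemeι.app W.1).hom (I.subschemeι_app_surjective W)
    ((I.ker_subschemeι_app W).trans (hI i))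
  rw [κX_eq, ← RingHom.comp_assoc] at key
  have h2 := RingHom.Smooth.respectsIso.2 _ (Scheme.ΓSpecIso (CommRingCat.of k)).commRingCatIsoToRingEquiv key
  convert h2 using 1
  refine RingHom.ext fun a => ?_
  exact (congrArg (fun z => (I.subschemeι.app W.1).hom (((ι ≫ CohB1.ProjSpace.toSpec n k).appLE ⊤ W.1 le_top).hom z))
    (RingHom.congr_fun (congrArg CommRingCat.Hom.hom (Scheme.ΓSpecIso (CommRingCat.of k)).hom_inv_id) a)).symm

end Groth.Agent.H28Bertini
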