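import Groth.Agent.H28Bertini.Proj

/-!
# The ratio `h / T_j` of a linear form on the `j`-th chart
-/

set_option autoImplicit false
set_option linter.style.haveILetI false
set_option backward.isDefEq.respectTransparency.types false

noncomputable section

universe u

open CategoryTheory CategoryTheory.Limits AlgebraicGeometry Opposite TopologicalSpace
open Groth.Agent.H11Tilde Groth.Agent.H11Proj HomogeneousLocalization
open CohB1 (polyGrading)

namespace Groth.Agent.H28Bertini

variable {k : Type u} [Field k] {n : ℕ}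

theorem sum_coeff_mul_X (h : ↥(polyGrading n k 1)) :
    (h : MvPolynomial (Fin (n + 1)) k) =
      ∑ t, MvPolynomial.C (MvPolynomial.coeff (Finsupp.single t 1) (h : MvPolynomial (Fin (n + 1)) k)) *
        MvPolynomial.X t := by
  classical
  have hm : (h : MvPolynomial (Fin (n + 1)) k) ∈ MvPolynomial.homogeneousSubmodule (Fin (n + 1)) k 1 := h.2
  rw [MvPolynomial.homogeneousSubmodule_one_eq_span_X, Submodule.mem_span_range_iff_exists_fun] at hm
  obtain ⟨a, ha⟩ := hm
  have hc : ∀ t, MvPolynomial.coeff (Finsupp.single t 1) (h : MvPolynomial (Fin (n + 1)) k) = a t := fun t => by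
    rw [← ha, MvPolynomial.coeff_sum, Finset.sum_eq_single t]
    · simp
    · intro b _ hb
      simp [MvPolynomial.coeff_X, Finsupp.single_left_inj, hb]
    · exact fun hn => absurd (Finset.mem_univ t) hn
  simp only [hc]
  rw [← ha]
  exact Finset.sum_congr rfl fun t _ => by rw [MvPolynomial.smul_eq_C_mul]

theorem lin_eq_ratio (h : ↥(polyGrading n k 1)) (j : Fin (n + 1)) :
    SepPts.lin j (fun t => MvPolynomial.coeff (Finsupp.single t 1) (h : MvPolynomial (Fin (n + 1)) k)) =
      ratio (polyGrading n k) (H11Proj.ProjSpace.X_mem n k j) h.2 := by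
  let ψ : MvPolynomial (Fin (n + 1)) k →+* Γ(CohB1.ProjSpace n k, SepPts.U j) :=
    (SepPts.γ j).comp (H11Proj.ProjSpace.dehom n k j)
  have hψ : ∀ (q : MvPolynomial (Fin (n + 1)) k) (hq : q ∈ polyGrading n k 1),
      ψ q = ratio (polyGrading n k) (H11Proj.ProjSpace.X_mem n k j) hq := by
    intro q hq
    show Proj.awayToSection _ _ ((H11Proj.ProjSpace.chartMap n k j).comp (H11Proj.ProjSpace.dehom n k j) q) = _
    rw [H11Proj.ProjSpace.chartMap_comp_dehom, awayProjHom_mk _ _ (n := 1) (by rw [one_smul]; exact hq)]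
    rfl
  rw [← hψ _ h.2]
  conv_rhs => rw [sum_coeff_mul_X h]
  rw [map_sum, SepPts.lin]
  refine Finset.sum_congr rfl fun t _ => ?_
  rw [map_mul, hψ (MvPolynomial.X t) (H11Proj.ProjSpace.X_mem n k t)]
  refine congrArg (· * _) ?_
  rw [SepPts.κ_eq]
  simp [ψ, H11Proj.ProjSpace.dehom]

theorem stalkIso'_symm_ratio (h : ↥(polyGrading n k 1)) (j : Fin (n + 1)) (y : CohB1.ProjSpace n k)
    (hj : (MvPolynomial.X j : MvPolynomial (Fin (n + 1)) k) ∉ y.asHomogeneousIdeal) :
    (Proj.stalkIso' (polyGrading n k) y).symm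
        (HomogeneousLocalization.mk ⟨1, h, ⟨MvPolynomial.X j, MvPolynomial.isHomogeneous_X k j⟩, hj⟩) =
      (CohB1.ProjSpace n k).presheaf.germ (SepPts.U j) y hj
        (ratio (polyGrading n k) (H11Proj.ProjSpace.X_mem n k j) h.2) := by
  apply (Proj.stalkIso' (polyGrading n k) y).injective
  refine ((Proj.stalkIso' (polyGrading n k) y).apply_symm_apply _).trans ?_
  refine Eq.trans ?_ (Proj.stalkIso'_germ (polyGrading n k) (SepPts.U j) y hj _).symm
  refine HomogeneousLocalization.val_injective _ ?_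
  refine Eq.trans ?_ (fval_ratio (polyGrading n k) (H11Proj.ProjSpace.X_mem n k j) h.2 ⟨y, hj⟩).symm
  rw [HomogeneousLocalization.val_mk]
  exact congrArg (Localization.mk _) (Subtype.ext (pow_one _).symm)

theorem isUnit_germ_lin_iff (h : ↥(polyGrading n k 1)) (j : Fin (n + 1)) (y : CohB1.ProjSpace n k)
    (hj : y ∈ SepPts.U (k := k) j) :
    IsUnit ((CohB1.ProjSpace n k).presheaf.germ (SepPts.U j) y hj
        (SepPts.lin j fun t => MvPolynomial.coeff (Finsupp.single t 1) (h : MvPolynomial (Fin (n + 1)) k))) ↔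
      (h : MvPolynomial (Fin (n + 1)) k) ∉ y.asHomogeneousIdeal := by
  rw [lin_eq_ratio, ← stalkIso'_symm_ratio h j y hj]
  refine (isUnit_map_iff (Proj.stalkIso' (polyGrading n k) y).symm _).trans ?_
  rw [← HomogeneousLocalization.isUnit_iff_isUnit_val, HomogeneousLocalization.val_mk, Localization.mk_eq_mk',
    IsLocalization.AtPrime.isUnit_mk'_iff]
  rfl

end Groth.Agent.H28Bertini
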